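import Groth.Agent.LimTop.PullSec
import Mathlib.AlgebraicGeometry.Morphisms.Flat
import Mathlib.AlgebraicGeometry.Morphisms.Separated
import Mathlib.RingTheory.IsTensorProduct
import Mathlib.RingTheory.Flat.Basic
import Mathlib.Algebra.Category.Ring.Constructions

/-!
# Flat base change for sections of quasi-coherent modules

For a cartesian square `q : X' ⟶ S'`, `p : X' ⟶ X` over `f : X ⟶ S`, `g : S' ⟶ S`, affine opens
`US ⊆ S`, `UT ⊆ g⁻¹ US` with `g` flat, and `f` quasi-compact separated,
`Γ(UT) ⊗ Γ(M, f⁻¹ US) ≅ Γ(p^* M, p⁻¹ f⁻¹ US ∩ q⁻¹ UT)`.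
-/

set_option autoImplicit false
set_option linter.style.haveILetI false
set_option backward.isDefEq.respectTransparency false
set_option backward.isDefEq.respectTransparency.types false

universe u

open CategoryTheory CategoryTheory.Limits AlgebraicGeometry TopologicalSpace Opposite
open scoped TensorProduct

noncomputable section

namespace Groth.Agent.LFDesc

section Algebra

theorem bijective_liftBaseChange_of_isPushout {A B R R' : Type*} [CommRing A] [CommRing B] [CommRing R]
    [CommRing R'] [Algebra A B] [Algebra A R] [Algebra A R'] [Algebra B R'] [Algebra R R']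
    [IsScalarTower A B R'] [IsScalarTower A R R'] [Algebra.IsPushout A B R R']
    {M M' : Type*} [AddCommGroup M] [Module A M] [Module R M] [IsScalarTower A R M]
    [AddCommGroup M'] [Module R M'] [Module R' M'] [IsScalarTower R R' M']
    (v : M →ₗ[R] M') (hv : IsBaseChange R' v) (Φ : B ⊗[A] M →+ M')
    (hΦ : ∀ b m, Φ (b ⊗ₜ m) = algebraMap B R' b • v m) : Function.Bijective Φ := by
  have h : (Φ : B ⊗[A] M → M') = hv.equiv ∘ (Algebra.IsPushout.cancelBaseChange A B R R' M).symm := by
    funext z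
    induction z using TensorProduct.induction_on with
    | zero => simp
    | tmul b m => simp [hΦ, IsBaseChange.equiv_tmul]
    | add x y hx hy =>
      simp only [Function.comp_apply] at hx hy ⊢
      rw [map_add, map_add, map_add, hx, hy]
  rw [h]
  exact hv.equiv.bijective.comp (LinearEquiv.bijective _)

variable {A B : Type*} [CommRing A] [CommRing B] [Algebra A B] [Module.Flat A B]
variable {ι κ : Type*} [Finite ι] [Finite κ]
variable {M : Type*} [AddCommGroup M] [Module A M]
variable {N : ι → Type*} [∀ i, AddCommGroup (N i)] [∀ i, Module A (N i)]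
variable {P : κ → Type*} [∀ i, AddCommGroup (P i)] [∀ i, Module A (P i)]

theorem piRight_lTensor [Fintype ι] [DecidableEq ι] (ψ : ∀ i, M →ₗ[A] N i) (z : B ⊗[A] M) (i : ι) :
    TensorProduct.piRight A A B N (LinearMap.lTensor B (LinearMap.pi ψ) z) i = LinearMap.lTensor B (ψ i) z := by
  induction z using TensorProduct.induction_on with
  | zero => simp
  | tmul b m => simp
  | add x y hx hy => rw [map_add, map_add, Pi.add_apply, hx, hy, map_add]

theorem eq_zero_of_lTensor_eq_zero (ψ : ∀ i, M →ₗ[A] N i) (hψ : Function.Injective (LinearMap.pi ψ))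
    (z : B ⊗[A] M) (hz : ∀ i, LinearMap.lTensor B (ψ i) z = 0) : z = 0 := by
  classical
  cases nonempty_fintype ι
  refine Module.Flat.lTensor_preserves_injective_linearMap (M := B) _ hψ ?_
  rw [map_zero]
  refine (TensorProduct.piRight A A B N).injective (funext fun i => ?_)
  rw [piRight_lTensor, hz i, map_zero]
  rfl

theorem exists_of_compatible (ψ : ∀ i, M →ₗ[A] N i) (d : ∀ k, (∀ i, N i) →ₗ[A] P k)
    (hex : Function.Exact (LinearMap.pi ψ) (LinearMap.pi d)) (w : B ⊗[A] (∀ i, N i))
    (hw : ∀ k, LinearMap.lTensor B (d k) w = 0) :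
    ∃ z, LinearMap.lTensor B (LinearMap.pi ψ) z = w := by
  classical
  cases nonempty_fintype κ
  refine (Module.Flat.lTensor_exact B hex w).1 ?_
  refine (TensorProduct.piRight A A B P).injective (funext fun k => ?_)
  rw [piRight_lTensor, hw k, map_zero]
  rfl

end Algebra

section Scheme

variable {X S S' X' : Scheme.{u}} (f : X ⟶ S) (g : S' ⟶ S) (p : X' ⟶ X) (q : X' ⟶ S')
  (M : X.Modules) {US : S.Opens} {UT : S'.Opens} (hT : UT ≤ g ⁻¹ᵁ US)

/-- Sections of `M` over `V`, as a module over `Γ(S, US)`. -/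
def Sec {V : X.Opens} (_h : V ≤ f ⁻¹ᵁ US) : Type u := Γ(M, V)

instance {V : X.Opens} (h : V ≤ f ⁻¹ᵁ US) : AddCommGroup (Sec f M h) :=
  inferInstanceAs (AddCommGroup Γ(M, V))

instance {V : X.Opens} (h : V ≤ f ⁻¹ᵁ US) : Module Γ(S, US) (Sec f M h) :=
  Module.compHom Γ(M, V) (f.appLE US V h).hom

/-- Restriction, linearly over `Γ(S, US)`. -/
def secRes {V V' : X.Opens} (h : V ≤ f ⁻¹ᵁ US) (h' : V' ≤ f ⁻¹ᵁ US) (hVV : V' ≤ V) :
    Sec f M h →ₗ[Γ(S, US)] Sec f M h' where
  toFun m := QCoh.res M hVV m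
  map_add' := map_add (QCoh.res M hVV).hom
  map_smul' a m := by
    refine (QCoh.res_smul M hVV (f.appLE US V h a) m).trans ?_
    refine congrArg (fun r : Γ(X, V') => r • QCoh.res M hVV (show Γ(M, V) from m)) ?_
    exact ConcreteCategory.congr_hom (f.appLE_map (V := V) h (homOfLE hVV).op) a

/-- The open of `X'` over `V` and `UT`. -/
abbrev over (UT : S'.Opens) (V : X.Opens) : X'.Opens := p ⁻¹ᵁ V ⊓ q ⁻¹ᵁ UT

/-- The base change map on sections. -/
def Φ (hw : p ≫ f = q ≫ g) {V : X.Opens} (h : V ≤ f ⁻¹ᵁ US) :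
    letI := (g.appLE US UT hT).hom.toAlgebra
    Γ(S', UT) ⊗[Γ(S, US)] Sec f M h →+ Γ((Scheme.Modules.pullback p).obj M, over p q UT V) :=
  letI := (g.appLE US UT hT).hom.toAlgebra
  TensorProduct.liftAddHom
    { toFun := fun b =>
        { toFun := fun (m : Sec f M h) => (q.appLE UT (over p q UT V) inf_le_right b : Γ(X', over p q UT V)) •
            (LimTop.unitSec p M (inf_le_left : over p q UT V ≤ p ⁻¹ᵁ V) (show Γ(M, V) from m) :
              Γ((Scheme.Modules.pullback p).obj M, over p q UT V))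
          map_zero' := by
            erw [map_zero]
            rw [smul_zero]
          map_add' := fun m m' => by
            erw [map_add]
            rw [smul_add] }
      map_zero' := AddMonoidHom.ext fun m => by
        show q.appLE UT (over p q UT V) inf_le_right 0 • _ = (0 : Γ((Scheme.Modules.pullback p).obj M, over p q UT V))
        rw [map_zero, zero_smul]
      map_add' := fun b b' => AddMonoidHom.ext fun m => by
        show (q.appLE UT (over p q UT V) inf_le_right (b + b') : Γ(X', over p q UT V)) •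
            (LimTop.unitSec p M (inf_le_left : over p q UT V ≤ p ⁻¹ᵁ V) (show Γ(M, V) from m) :
              Γ((Scheme.Modules.pullback p).obj M, over p q UT V)) =
            (q.appLE UT (over p q UT V) inf_le_right b : Γ(X', over p q UT V)) •
            (LimTop.unitSec p M (inf_le_left : over p q UT V ≤ p ⁻¹ᵁ V) (show Γ(M, V) from m) :
              Γ((Scheme.Modules.pullback p).obj M, over p q UT V)) +
            (q.appLE UT (over p q UT V) inf_le_right b' : Γ(X', over p q UT V)) •
            (LimTop.unitSec p M (inf_le_left : over p q UT V ≤ p ⁻¹ᵁ V) (show Γ(M, V) from m) :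
              Γ((Scheme.Modules.pullback p).obj M, over p q UT V))
        rw [map_add, add_smul] }
    fun a b m => by
      show (q.appLE UT (over p q UT V) inf_le_right (g.appLE US UT hT a * b) : Γ(X', over p q UT V)) •
            (LimTop.unitSec p M (inf_le_left : over p q UT V ≤ p ⁻¹ᵁ V) (show Γ(M, V) from m) :
              Γ((Scheme.Modules.pullback p).obj M, over p q UT V)) =
        (q.appLE UT (over p q UT V) inf_le_right b : Γ(X', over p q UT V)) •
            (LimTop.unitSec p M (inf_le_left : over p q UT V ≤ p ⁻¹ᵁ V)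
              ((f.appLE US V h a : Γ(X, V)) • (show Γ(M, V) from m)) :
              Γ((Scheme.Modules.pullback p).obj M, over p q UT V))
      rw [LimTop.unitSec_smul, smul_smul, map_mul, mul_comm]
      congr 2
      rw [← CommRingCat.comp_apply, ← CommRingCat.comp_apply, Scheme.Hom.appLE_comp_appLE,
        Scheme.Hom.appLE_comp_appLE]
      simp only [hw]

theorem Φ_tmul (hw : p ≫ f = q ≫ g) {V : X.Opens} (h : V ≤ f ⁻¹ᵁ US) (b : Γ(S', UT)) (m : Sec f M h) :
    letI := (g.appLE US UT hT).hom.toAlgebra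
    Φ f g p q M hT hw h (b ⊗ₜ m) =
      q.appLE UT (over p q UT V) inf_le_right b • LimTop.unitSec p M inf_le_left (show Γ(M, V) from m) := rfl

theorem res_Φ (hw : p ≫ f = q ≫ g) {V V' : X.Opens} (h : V ≤ f ⁻¹ᵁ US) (h' : V' ≤ f ⁻¹ᵁ US) (hVV : V' ≤ V) :
    letI := (g.appLE US UT hT).hom.toAlgebra
    ∀ z : Γ(S', UT) ⊗[Γ(S, US)] Sec f M h,
      QCoh.res _ (inf_le_inf_right (q ⁻¹ᵁ UT) (p.preimage_mono hVV)) (Φ f g p q M hT hw h z) =
        Φ f g p q M hT hw h' (LinearMap.lTensor _ (secRes f M h h' hVV) z) := by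
  letI := (g.appLE US UT hT).hom.toAlgebra
  intro z
  induction z using TensorProduct.induction_on with
  | zero => simp
  | tmul b m =>
    rw [LinearMap.lTensor_tmul, Φ_tmul, Φ_tmul, QCoh.res_smul, LimTop.res_unitSec]
    congr 1
    · exact ConcreteCategory.congr_hom (q.appLE_map _ _) b
    · exact (LimTop.unitSec_res p M hVV _ _).symm
  | add x y hx hy => simp only [map_add, hx, hy]

variable (H : IsPullback p q f g) [M.IsQuasicoherent]

theorem Φ_bijective_of_isAffineOpen (hUS : IsAffineOpen US) (hUT : IsAffineOpen UT) {V : X.Opens}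
    (h : V ≤ f ⁻¹ᵁ US) (hV : IsAffineOpen V) :
    Function.Bijective (Φ f g p q M hT H.w h) := by
  have hpo := (isIso_pushoutSection_iff H hT h rfl).1 (isIso_pushoutSection_of_isAffineOpen H hT h rfl hUS hUT hV)
  haveI : IsAffine _ := hUS
  haveI : IsAffine _ := hUT
  haveI : IsAffine _ := hV
  have hP : IsAffineOpen (over p q UT V) :=
    .of_isIso (Scheme.Hom.isPullback_resLE H hT h rfl).isoPullback.hom
  letI := (g.appLE US UT hT).hom.toAlgebra
  letI := (f.appLE US V h).hom.toAlgebra
  letI := (p.appLE V (over p q UT V) inf_le_left).hom.toAlgebra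
  letI := (q.appLE UT (over p q UT V) inf_le_right).hom.toAlgebra
  letI : Algebra Γ(S, US) Γ(X', over p q UT V) :=
    (g.appLE US UT hT ≫ q.appLE UT (over p q UT V) inf_le_right).hom.toAlgebra
  haveI : IsScalarTower Γ(S, US) Γ(S', UT) Γ(X', over p q UT V) := IsScalarTower.of_algebraMap_eq fun _ => rfl
  haveI : IsScalarTower Γ(S, US) Γ(X, V) Γ(X', over p q UT V) :=
    IsScalarTower.of_algebraMap_eq fun x => (ConcreteCategory.congr_hom hpo.w x).symm
  haveI : Algebra.IsPushout Γ(S, US) Γ(S', UT) Γ(X, V) Γ(X', over p q UT V) :=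
    CommRingCat.isPushout_iff_isPushout.1 hpo.flip
  letI : Module Γ(X, V) (Sec f M h) := inferInstanceAs (Module Γ(X, V) Γ(M, V))
  haveI : IsScalarTower Γ(S, US) Γ(X, V) (Sec f M h) := IsScalarTower.of_algebraMap_smul fun _ _ => rfl
  letI := LimTop.secModule p M (inf_le_left : over p q UT V ≤ p ⁻¹ᵁ V)
  haveI : IsScalarTower Γ(X, V) Γ(X', over p q UT V) Γ((Scheme.Modules.pullback p).obj M, over p q UT V) :=
    IsScalarTower.of_algebraMap_smul fun _ _ => rfl
  exact bijective_liftBaseChange_of_isPushout (A := Γ(S, US)) (B := Γ(S', UT)) (R := Γ(X, V))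
    (R' := Γ(X', over p q UT V)) (M := Sec f M h)
    (LimTop.unitSecLin p M (inf_le_left : over p q UT V ≤ p ⁻¹ᵁ V))
    (LimTop.isBaseChange_unitSec p M _ hV hP) (Φ f g p q M hT H.w h) fun b m => rfl

/-- Flat base change for sections. -/
theorem Φ_bijective [QuasiCompact f] [IsSeparated f] [Flat g] (hUS : IsAffineOpen US) (hUT : IsAffineOpen UT) :
    Function.Bijective (Φ f g p q M hT H.w (le_refl (f ⁻¹ᵁ US))) := by
  letI := (g.appLE US UT hT).hom.toAlgebra
  haveI : Module.Flat Γ(S, US) Γ(S', UT) :=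
    RingHom.flat_algebraMap_iff.1 (HasRingHomProperty.appLE @Flat g inferInstance ⟨US, hUS⟩ ⟨UT, hUT⟩ hT)
  obtain ⟨s, hs, e⟩ := isCompact_and_isOpen_iff_finite_and_eq_biUnion_affineOpens.mp
    ⟨f.isCompact_preimage hUS.isCompact, (f ⁻¹ᵁ US).2⟩
  haveI : Finite s := hs.to_subtype
  have hle : ∀ i : s, i.1.1 ≤ f ⁻¹ᵁ US := fun i x hx => by
    show x ∈ ((f ⁻¹ᵁ US : X.Opens) : Set X)
    rw [e]
    exact Set.mem_biUnion i.2 hx
  have hcov : ∀ x ∈ f ⁻¹ᵁ US, ∃ i : s, x ∈ i.1.1 := fun x hx => by
    obtain ⟨W, hW, hxW⟩ := Set.mem_iUnion₂.1 (show x ∈ ⋃ W ∈ s, ((W : X.Opens) : Set X) from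
      e ▸ (hx : x ∈ ((f ⁻¹ᵁ US : X.Opens) : Set X)))
    exact ⟨⟨W, hW⟩, hxW⟩
  have hcovX : f ⁻¹ᵁ US ≤ ⨆ i : s, i.1.1 := fun x hx => Opens.mem_iSup.2 (hcov x hx)
  have haff : ∀ k : s × s, IsAffineOpen (k.1.1.1 ⊓ k.2.1.1) := fun k => by
    exact (isAffineHom_diagonal_iff.mp (inferInstance : IsAffineHom (pullback.diagonal f))) US hUS
      _ (hle k.1) _ (hle k.2) k.1.1.2 k.2.1.2
  let ψ := fun i : s => secRes f M (le_refl (f ⁻¹ᵁ US)) (hle i) (hle i)
  have hV : ∀ k : s × s, k.1.1.1 ⊓ k.2.1.1 ≤ f ⁻¹ᵁ US := fun k => inf_le_left.trans (hle k.1)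
  let d := fun k : s × s => (secRes f M (hle k.1) (hV k) inf_le_left).comp (LinearMap.proj (R := Γ(S, US)) (φ := fun i : s => Sec f M (hle i)) k.1) -
    (secRes f M (hle k.2) (hV k) inf_le_right).comp
      (LinearMap.proj (R := Γ(S, US)) (φ := fun i : s => Sec f M (hle i)) k.2)
  have hψ : Function.Injective (LinearMap.pi ψ) := fun a b hab =>
    QCoh.eq_of_locally_eq M (fun i => hle i) hcovX a b fun i => congrFun hab i
  have hP : ∀ i : s, over p q UT i.1.1 ≤ over p q UT (f ⁻¹ᵁ US) := fun i =>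
    inf_le_inf_right _ (p.preimage_mono (hle i))
  have hcov' : over p q UT (f ⁻¹ᵁ US) ≤ ⨆ i : s, over p q UT i.1.1 := fun x hx => by
    obtain ⟨i, hi⟩ := hcov _ hx.1
    exact Opens.mem_iSup.2 ⟨i, hi, hx.2⟩
  constructor
  · rw [injective_iff_map_eq_zero]
    intro z hz
    refine eq_zero_of_lTensor_eq_zero ψ hψ z fun i => ?_
    refine (Φ_bijective_of_isAffineOpen f g p q M hT H hUS hUT (hle i) i.1.2).1 ?_
    rw [map_zero, ← res_Φ f g p q M hT H.w (le_refl _) (hle i) (hle i) z, hz]
    exact map_zero _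
  · intro w
    classical
    cases nonempty_fintype s
    choose zi hzi using fun i : s =>
      (Φ_bijective_of_isAffineOpen f g p q M hT H hUS hUT (hle i) i.1.2).2 (QCoh.res _ (hP i) w)
    let z' := (TensorProduct.piRight Γ(S, US) Γ(S, US) Γ(S', UT) fun i : s => Sec f M (hle i)).symm zi
    have hz' : ∀ i, LinearMap.lTensor Γ(S', UT)
        (LinearMap.proj i : (∀ i : s, Sec f M (hle i)) →ₗ[Γ(S, US)] Sec f M (hle i)) z' = zi i := by
      intro i
      have h1 : ∀ y, LinearMap.lTensor Γ(S', UT)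
          (LinearMap.proj i : (∀ i : s, Sec f M (hle i)) →ₗ[Γ(S, US)] Sec f M (hle i)) y =
          TensorProduct.piRight Γ(S, US) Γ(S, US) Γ(S', UT) (fun i : s => Sec f M (hle i)) y i := by
        intro y
        induction y using TensorProduct.induction_on with
        | zero => simp
        | tmul b m => simp
        | add a b ha hb => simp [ha, hb]
      rw [h1]
      exact congrFun (LinearEquiv.apply_symm_apply _ zi) i
    have hex : Function.Exact (LinearMap.pi ψ) (LinearMap.pi d) := by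
      intro y
      constructor
      · intro hy
        obtain ⟨m, hm, -⟩ := TopCat.Sheaf.existsUnique_gluing' ⟨M.presheaf, M.isSheaf⟩ (fun i : s => i.1.1)
          (f ⁻¹ᵁ US) (fun i => homOfLE (hle i)) hcovX (fun i => (y i : Γ(M, i.1.1)))
          (fun i j => sub_eq_zero.1 (congrFun hy (i, j)))
        exact ⟨m, funext fun i => hm i⟩
      · rintro ⟨m, rfl⟩
        funext k
        exact sub_eq_zero.2 ((QCoh.res_res M _ _ (show Γ(M, f ⁻¹ᵁ US) from m)).trans
          (QCoh.res_res M _ _ (show Γ(M, f ⁻¹ᵁ US) from m)).symm)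
    have hw' : ∀ k, LinearMap.lTensor Γ(S', UT) (d k) z' = 0 := by
      intro k
      refine (Φ_bijective_of_isAffineOpen f g p q M hT H hUS hUT (hV k) (haff k)).1 ?_
      rw [map_zero, LinearMap.lTensor_sub, LinearMap.sub_apply, map_sub, LinearMap.lTensor_comp,
        LinearMap.lTensor_comp, LinearMap.comp_apply, LinearMap.comp_apply, hz', hz',
        ← res_Φ f g p q M hT H.w (hle k.1) (hV k) inf_le_left, ← res_Φ f g p q M hT H.w (hle k.2) (hV k) inf_le_right,
        hzi, hzi, QCoh.res_res, QCoh.res_res, sub_self]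
    obtain ⟨z, hz⟩ := exists_of_compatible ψ d hex z' hw'
    refine ⟨z, QCoh.eq_of_locally_eq _ hP hcov' _ _ fun i => ?_⟩
    rw [res_Φ f g p q M hT H.w (le_refl _) (hle i) (hle i) z, ← hzi i, ← hz' i, ← hz,
    ← LinearMap.comp_apply, ← LinearMap.lTensor_comp, LinearMap.proj_pi]

end Scheme

end Groth.Agent.LFDesc
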