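import Groth.Agent.LFFrame.Basic
import Groth.Agent.Props.QRank
import Groth.Agent.LimTop.PullSec
import Mathlib.RingTheory.Flat.FaithfullyFlat.Algebra
import Mathlib.RingTheory.TensorProduct.Quotient
import Mathlib.AlgebraicGeometry.Morphisms.Flat

/-!
# Invertibility descends along quasi-compact faithfully flat morphisms
-/

set_option autoImplicit false
set_option linter.style.haveILetI false
set_option backward.isDefEq.respectTransparency false
set_option backward.isDefEq.respectTransparency.types false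

universe u

open CategoryTheory CategoryTheory.Limits AlgebraicGeometry TopologicalSpace Opposite
open Groth.Agent.PullStalk.Sky
open scoped TensorProduct

noncomputable section

namespace Groth.Agent.LFDesc

variable {X Y : Scheme.{u}}

/-- A frame of rank `n` makes sections over smaller opens a finite module. -/
theorem finite_sections_of_isFrame {M : X.Modules} {U : X.Opens} {n : ℕ} {e : Fin n → Γ(M, U)}
    (he : LFFrame.IsFrame M U e) {V : X.Opens} (h : V ≤ U) : Module.Finite Γ(X, V) Γ(M, V) := by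
  let c : (Fin n → Γ(X, V)) →ₗ[Γ(X, V)] Γ(M, V) :=
    Fintype.linearCombination Γ(X, V) fun i => M.presheaf.map (homOfLE h).op (e i)
  refine Module.Finite.of_surjective c fun m => ?_
  obtain ⟨a, ha⟩ := (he V h).2 m
  exact ⟨a, by rw [Fintype.linearCombination_apply]; exact ha⟩

/-- Sections of a locally framed quasi-coherent module over affine opens are finite. -/
theorem finite_sections_of_frames (M : X.Modules) [M.IsQuasicoherent]
    (h : ∀ x : X, ∃ (U : X.Opens) (n : ℕ) (e : Fin n → Γ(M, U)), x ∈ U ∧ LFFrame.IsFrame M U e)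
    {W : X.Opens} (hW : IsAffineOpen W) : Module.Finite Γ(X, W) Γ(M, W) := by
  refine QCoh.finite_sections_of_local M hW fun x hx => ?_
  obtain ⟨U, n, e, hxU, he⟩ := h x
  obtain ⟨g, hg, hxg⟩ := hW.exists_basicOpen_le ⟨x, hxU⟩ hx
  exact ⟨g, hxg, finite_sections_of_isFrame he hg⟩

/-- A line frame at every point. -/
theorem exists_frame_one {M : X.Modules} (hM : PicF.IsInvertible M) (x : X) :
    ∃ (U : X.Opens) (e : Fin 1 → Γ(M, U)), x ∈ U ∧ LFFrame.IsFrame M U e := by
  obtain ⟨U, hx, ⟨φ⟩⟩ := hM x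
  obtain ⟨e, he⟩ := LFFrame.exists_isFrame_of_split (M := M) (fun _ : Fin 1 => φ.inv) (fun _ => φ.hom)
    (fun i j => by simp [Subsingleton.elim i j]) (by simp)
  exact ⟨U, e, hx, he⟩

/-- Stalks of invertible modules are free of rank one. -/
theorem exists_basis_stalk {M : X.Modules} (hM : PicF.IsInvertible M) (x : X) :
    Nonempty (Module.Basis (Fin 1) (X.presheaf.stalk x) (M.presheaf.stalk x)) := by
  obtain ⟨U, e, hx, he⟩ := exists_frame_one hM x
  exact ⟨Module.Basis.ofEquivFun (LinearEquiv.ofBijective _ (he.stalkComb_bijective x hx)).symm⟩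

/-- A quasi-coherent module with finite sections and stalks free of rank one is invertible. -/
theorem isInvertible_of_stalks (M : X.Modules) [M.IsQuasicoherent]
    (hfin : ∀ U : X.Opens, IsAffineOpen U → Module.Finite Γ(X, U) Γ(M, U))
    (hfree : ∀ x : X, Nonempty (Module.Basis (Fin 1) (X.presheaf.stalk x) (M.presheaf.stalk x))) :
    PicF.IsInvertible M := by
  intro x
  obtain ⟨U, hU, hx, -⟩ := exists_isAffineOpen_mem_and_subset (X := X) (Opens.mem_top x)
  haveI := hfin U hU
  have hrank : Props.QRank.fibreRank M x = 1 := by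
    obtain ⟨b⟩ := hfree x
    haveI := Module.Free.of_basis b
    rw [Props.QRank.fibreRank_eq_of_free, Module.finrank_eq_card_basis b, Fintype.card_fin]
  obtain ⟨g, hxg, -, m, hm⟩ := Props.QRank.exists_generators M hU hx (O := ⊤) trivial
  obtain ⟨m₁, hm₁⟩ : ∃ m₁ : Fin 1 → Γ(M, X.basicOpen g),
      Submodule.span Γ(X, X.basicOpen g) (Set.range m₁) = ⊤ := by
    revert m
    rw [hrank]
    exact fun m hm => ⟨m, hm⟩
  refine ⟨X.basicOpen g, hxg, LFFrame.IsFrame.nonempty_restrict_iso (e := m₁) ?_⟩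
  refine LFFrame.isFrame_of_stalkComb_bijective fun y hy => ?_
  have hsurj : Function.Surjective (LFFrame.stalkComb M m₁ y hy) := by
    rw [← LinearMap.range_eq_top, LFFrame.stalkComb, Fintype.range_linearCombination]
    exact Props.QRank.span_germ_eq_top M (hU.basicOpen g) hm₁ hy
  obtain ⟨b⟩ := hfree y
  refine ⟨?_, hsurj⟩
  have h' := OrzechProperty.injective_of_surjective_endomorphism
    (b.equivFun.toLinearMap ∘ₗ LFFrame.stalkComb M m₁ y hy) (b.equivFun.surjective.comp hsurj)
  exact fun a c hac => h' (congrArg b.equivFun hac)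

/-- Invertibility descends along quasi-compact faithfully flat morphisms. -/
theorem isInvertible_of_pullback (f : Y ⟶ X) [AlgebraicGeometry.Flat f] [Surjective f] [QuasiCompact f] (M : X.Modules)
    [M.IsQuasicoherent] (h : PicF.IsInvertible ((Scheme.Modules.pullback f).obj M)) :
    PicF.IsInvertible M := by
  haveI : ((Scheme.Modules.pullback f).obj M).IsQuasicoherent := QCoh.isQuasicoherent_pullback f M
  have hfinP : ∀ W : Y.Opens, IsAffineOpen W →
      Module.Finite Γ(Y, W) Γ((Scheme.Modules.pullback f).obj M, W) := fun W hW =>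
    finite_sections_of_frames _ (fun y => by
      obtain ⟨U, e, hy, he⟩ := exists_frame_one h y
      exact ⟨U, 1, e, hy, he⟩) hW
  have hfin : ∀ U : X.Opens, IsAffineOpen U → Module.Finite Γ(X, U) Γ(M, U) := by
    intro U hU
    classical
    obtain ⟨s, hs, e⟩ := isCompact_and_isOpen_iff_finite_and_eq_biUnion_affineOpens.mp
      ⟨f.isCompact_preimage hU.isCompact, (f ⁻¹ᵁ U).2⟩
    haveI : Finite s := hs.to_subtype
    have hle : ∀ W : s, W.1.1 ≤ f ⁻¹ᵁ U := fun W y hy => by
      show y ∈ ((f ⁻¹ᵁ U : Y.Opens) : Set Y)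
      rw [e]
      exact Set.mem_biUnion W.2 hy
    have key : ∀ W : s, ∃ T : Finset Γ(M, U), ∀ z : Γ((Scheme.Modules.pullback f).obj M, W.1.1),
        z ∈ Submodule.span Γ(Y, W.1.1) ((fun m => LimTop.unitSec f M (hle W) m) '' (T : Set Γ(M, U))) := by
      intro W
      letI := (f.appLE U W.1.1 (hle W)).hom.toAlgebra
      letI := LimTop.secModule f M (hle W)
      haveI : IsScalarTower Γ(X, U) Γ(Y, W.1.1) Γ((Scheme.Modules.pullback f).obj M, W.1.1) :=
        IsScalarTower.of_algebraMap_smul fun _ _ => rfl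
      have hbc := LimTop.isBaseChange_unitSec f M (hle W) hU W.1.2
      haveI := hfinP W.1.1 W.1.2
      have hspan : Submodule.span Γ(Y, W.1.1) (Set.range (LimTop.unitSecLin f M (hle W))) = ⊤ := by
        refine eq_top_iff.2 fun z hz => ?_
        clear hz
        induction z using hbc.inductionOn with
        | zero => exact zero_mem _
        | tmul m => exact Submodule.subset_span ⟨m, rfl⟩
        | smul r n hn => exact Submodule.smul_mem _ r hn
        | add a b ha hb => exact add_mem ha hb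
      obtain ⟨G, hG⟩ := (Module.finite_def.1 (hfinP W.1.1 W.1.2))
      obtain ⟨T, hT, hGT⟩ : ∃ T : Finset Γ(M, U), (T : Set Γ(M, U)) ⊆ Set.univ ∧
          (G : Set Γ((Scheme.Modules.pullback f).obj M, W.1.1)) ⊆
            Submodule.span Γ(Y, W.1.1) ((fun m => LimTop.unitSec f M (hle W) m) '' (T : Set Γ(M, U))) := by
        have : ∀ z ∈ G, ∃ T : Finset Γ(M, U),
            z ∈ Submodule.span Γ(Y, W.1.1) ((fun m => LimTop.unitSec f M (hle W) m) '' (T : Set Γ(M, U))) := by
          intro z _
          have hz : z ∈ Submodule.span Γ(Y, W.1.1) (Set.range (LimTop.unitSecLin f M (hle W))) := hspan ▸ trivial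
          obtain ⟨T', hT', hz'⟩ := Submodule.mem_span_finite_of_mem_span hz
          choose pre hpre using hT'
          refine ⟨T'.attach.image fun w => pre w.2, Submodule.span_mono ?_ hz'⟩
          intro w hw
          exact ⟨pre hw, Finset.mem_coe.2 (Finset.mem_image.2 ⟨⟨w, hw⟩, Finset.mem_attach _ _, rfl⟩), hpre hw⟩
        choose T hT using this
        refine ⟨G.attach.biUnion fun z => T z.1 z.2, Set.subset_univ _, fun z hz => ?_⟩
        refine Submodule.span_mono (Set.image_mono ?_) (hT z hz)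
        intro m hm
        exact Finset.mem_coe.2 (Finset.mem_biUnion.2 ⟨⟨z, hz⟩, Finset.mem_attach _ _, hm⟩)
      refine ⟨T, fun z => ?_⟩
      have : z ∈ Submodule.span Γ(Y, W.1.1) (G : Set Γ((Scheme.Modules.pullback f).obj M, W.1.1)) := hG ▸ trivial
      exact Submodule.span_le.2 hGT this
    choose T hT using key
    letI := Fintype.ofFinite s
    refine ⟨⟨Finset.univ.biUnion T, ?_⟩⟩
    set N := Submodule.span Γ(X, U) ((Finset.univ.biUnion T : Finset Γ(M, U)) : Set Γ(M, U))
    refine eq_top_iff.2 fun m _ => ?_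
    let J : Ideal Γ(X, U) := N.comap (LinearMap.toSpanSingleton Γ(X, U) Γ(M, U) m)
    suffices hJ : J = ⊤ by
      have h1 : (1 : Γ(X, U)) ∈ J := hJ ▸ trivial
      simpa [J] using h1
    by_contra hne
    obtain ⟨P, hP, hJP⟩ := Ideal.exists_le_maximal J hne
    let x : X := hU.fromSpec ⟨P, hP.isPrime⟩
    have hxU : x ∈ U := by
      show x ∈ (U : Set X)
      rw [← IsAffineOpen.range_fromSpec hU]
      exact Set.mem_range_self _
    obtain ⟨y, hy⟩ := f.surjective x
    have hyU : y ∈ f ⁻¹ᵁ U := show f y ∈ U from hy ▸ hxU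
    obtain ⟨W, hWs, hyW⟩ := Set.mem_iUnion₂.1 (show y ∈ ⋃ W ∈ s, ((W : Y.Opens) : Set Y) from
      e ▸ (hyU : y ∈ ((f ⁻¹ᵁ U : Y.Opens) : Set Y)))
    let W' : s := ⟨W, hWs⟩
    letI := (f.appLE U W.1 (hle W')).hom.toAlgebra
    letI := LimTop.secModule f M (hle W')
    haveI : IsScalarTower Γ(X, U) Γ(Y, W.1) Γ((Scheme.Modules.pullback f).obj M, W.1) :=
      IsScalarTower.of_algebraMap_smul fun _ _ => rfl
    haveI : Module.Flat Γ(X, U) Γ(Y, W.1) :=
      RingHom.flat_algebraMap_iff.1 (HasRingHomProperty.appLE @Flat f inferInstance ⟨U, hU⟩ W (hle W'))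
    have hbc := LimTop.isBaseChange_unitSec f M (hle W') hU W.2
    have hzero : ∀ q : Γ(M, U) ⧸ N, ((1 : Γ(Y, W.1)) ⊗ₜ[Γ(X, U)] q) = 0 := by
      intro q
      obtain ⟨m', rfl⟩ := Submodule.Quotient.mk_surjective N q
      have h1 : LimTop.unitSec f M (hle W') m' ∈
          Submodule.span Γ(Y, W.1) ((fun m => LimTop.unitSec f M (hle W') m) '' (T W' : Set Γ(M, U))) := hT W' _
      let Q : Γ((Scheme.Modules.pullback f).obj M, W.1) →ₗ[Γ(Y, W.1)] Γ(Y, W.1) ⊗[Γ(X, U)] (Γ(M, U) ⧸ N) :=
        (LinearMap.baseChange Γ(Y, W.1) N.mkQ) ∘ₗ hbc.equiv.symm.toLinearMap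
      have hQ : ∀ m'', Q (LimTop.unitSec f M (hle W') m'') = (1 : Γ(Y, W.1)) ⊗ₜ N.mkQ m'' := by
        intro m''
        show LinearMap.baseChange _ N.mkQ (hbc.equiv.symm (LimTop.unitSecLin f M (hle W') m'')) = _
        rw [hbc.equiv_symm_apply, LinearMap.baseChange_tmul]
      have h2 : ∀ z ∈ Submodule.span Γ(Y, W.1)
          ((fun m => LimTop.unitSec f M (hle W') m) '' (T W' : Set Γ(M, U))), Q z = 0 := by
        intro z hz
        induction hz using Submodule.span_induction with
        | mem z hz =>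
          obtain ⟨m'', hm'', rfl⟩ := hz
          rw [hQ, show N.mkQ m'' = 0 from (Submodule.Quotient.mk_eq_zero N).2
            (Submodule.subset_span (Finset.mem_coe.2 (Finset.mem_biUnion.2 ⟨W', Finset.mem_univ _, hm''⟩))),
            TensorProduct.tmul_zero]
        | zero => exact map_zero _
        | add a b _ _ ha hb => rw [map_add, ha, hb, add_zero]
        | smul r a _ ha => rw [map_smul, ha, smul_zero]
      exact (hQ m').symm.trans (h2 _ h1)
    let ι : (Γ(X, U) ⧸ J) →ₗ[Γ(X, U)] (Γ(M, U) ⧸ N) :=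
      Submodule.mapQ J N (LinearMap.toSpanSingleton Γ(X, U) Γ(M, U) m) le_rfl
    have hι : Function.Injective ι := by
      rw [← LinearMap.ker_eq_bot, Submodule.ker_mapQ, Submodule.mkQ_map_self]
    have h3 := Module.Flat.lTensor_preserves_injective_linearMap (M := Γ(Y, W.1)) ι hι
    have h4 : ((1 : Γ(Y, W.1)) ⊗ₜ[Γ(X, U)] (Submodule.Quotient.mk 1 : Γ(X, U) ⧸ J)) = 0 := by
      refine h3 ?_
      rw [LinearMap.lTensor_tmul, hzero, map_zero]
    have h5 : (1 : Γ(Y, W.1)) ∈ J.map (algebraMap Γ(X, U) Γ(Y, W.1)) := by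
      have := congrArg (Algebra.TensorProduct.quotIdealMapEquivTensorQuot Γ(Y, W.1) J).symm h4
      rw [map_zero] at this
      rw [← Ideal.Quotient.eq_zero_iff_mem]
      exact ((Algebra.TensorProduct.quotIdealMapEquivTensorQuot_symm_tmul Γ(Y, W.1) J (1 : Γ(Y, W.1)) (1 : Γ(X, U))).trans
        (congrArg _ (one_smul Γ(X, U) (1 : Γ(Y, W.1))))).symm.trans this
    have h6 : J.map (algebraMap Γ(X, U) Γ(Y, W.1)) ≤ (W.2.primeIdealOf ⟨y, hyW⟩).asIdeal := by
      refine (Ideal.map_le_iff_le_comap).2 (hJP.trans ?_)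
      have := IsAffineOpen.comap_primeIdealOf_appLE (f := f) U hU W.1 W.2 (hle W') hyW
      have h7 : hU.primeIdealOf ⟨f y, hle W' hyW⟩ = ⟨P, hP.isPrime⟩ := by
        apply hU.fromSpec.isOpenEmbedding.injective
        rw [hU.fromSpec_primeIdealOf]
        exact hy
      rw [h7] at this
      exact (congrArg PrimeSpectrum.asIdeal this).ge
    exact (W.2.primeIdealOf ⟨y, hyW⟩).isPrime.ne_top ((Ideal.eq_top_iff_one _).2 (h6 h5))
  refine isInvertible_of_stalks M hfin fun x => ?_
  obtain ⟨y, rfl⟩ := f.surjective x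
  obtain ⟨U, hU, hxU, -⟩ := exists_isAffineOpen_mem_and_subset (X := X) (Opens.mem_top (f y))
  haveI := hfin U hU
  haveI := Props.QProj.finite_stalk M hU hxU
  letI := (f.stalkMap y).hom.toAlgebra
  letI := PullStalk.Basic.moduleOver f M y
  haveI : IsScalarTower (X.presheaf.stalk (f y)) (Y.presheaf.stalk y)
      (((Scheme.Modules.pullback f).obj M).presheaf.stalk y) :=
    IsScalarTower.of_algebraMap_smul fun _ _ => rfl
  have hbc := PullStalk.Basic.isBaseChange_unitStalk f M y
  haveI : Module.Flat (X.presheaf.stalk (f y)) (Y.presheaf.stalk y) := RingHom.flat_algebraMap_iff.1 (Flat.stalkMap f y)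
  haveI : IsLocalHom (algebraMap (X.presheaf.stalk (f y)) (Y.presheaf.stalk y)) :=
    inferInstanceAs (IsLocalHom (f.stalkMap y).hom)
  haveI : Module.FaithfullyFlat (X.presheaf.stalk (f y)) (Y.presheaf.stalk y) :=
    Module.FaithfullyFlat.of_flat_of_isLocalHom
  obtain ⟨b⟩ := exists_basis_stalk h y
  let b' := b.map hbc.equiv.symm
  haveI : Module.Free (Y.presheaf.stalk y) (Y.presheaf.stalk y ⊗[X.presheaf.stalk (f y)] M.presheaf.stalk (f y)) :=
    Module.Free.of_basis b'
  haveI : Module.Flat (X.presheaf.stalk (f y)) (M.presheaf.stalk (f y)) :=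
    Module.Flat.of_flat_tensorProduct _ _ (Y.presheaf.stalk y)
  haveI : Module.Free (X.presheaf.stalk (f y)) (M.presheaf.stalk (f y)) := Module.free_of_flat_of_isLocalRing
  refine ⟨Module.finBasisOfFinrankEq _ _ ?_⟩
  rw [← Module.finrank_baseChange (R := Y.presheaf.stalk y), Module.finrank_eq_card_basis b', Fintype.card_fin]

end Groth.Agent.LFDesc
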