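import Groth.Agent.LFDesc.BaseChange
import Groth.Agent.LFDesc.Invertible
import Groth.Agent.PicCl.Basic
import Groth.Agent.ProjTwist.Invertible
import Groth.Agent.Omega.Stalks
import Groth.Agent.QCoh.Qcqs

/-!
# Descent of triviality over the base along fpqc morphisms
-/

set_option autoImplicit false
set_option linter.style.haveILetI false
set_option backward.isDefEq.respectTransparency false
set_option backward.isDefEq.respectTransparency.types false

universe u

open CategoryTheory CategoryTheory.Limits AlgebraicGeometry TopologicalSpace Opposite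
open Groth.Agent.PullStalk.Sky
open scoped TensorProduct

noncomputable section

namespace Groth.Agent.LFDesc

variable {X S S' X' : Scheme.{u}}

/-- A morphism bijective on arbitrarily small opens is an isomorphism. -/
theorem isIso_of_bijective_small {M N : X.Modules} (φ : M ⟶ N)
    (h : ∀ x : X, ∀ U : X.Opens, x ∈ U → ∃ V : X.Opens, x ∈ V ∧ V ≤ U ∧ Function.Bijective (φ.app V)) :
    IsIso φ := by
  refine Omega.Stalks.isIso_of_stalk fun x => ⟨?_, fun t => ?_⟩
  · rw [injective_iff_map_eq_zero]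
    intro t ht
    obtain ⟨W, hxW, m, rfl⟩ := exists_germM_eq M x t
    rw [PullStalk.Exact.stalkLin_germ] at ht
    obtain ⟨W', hxW', i₁, i₂, h1⟩ := N.presheaf.germ_eq x hxW hxW (φ.app W m) 0
      (ht.trans (map_zero (N.presheaf.germ W x hxW).hom).symm)
    obtain ⟨V, hxV, hVW, hV⟩ := h x W' hxW'
    have h2 : φ.app V (QCoh.res M (hVW.trans i₁.le) m) = φ.app V 0 := by
      rw [map_zero, QCoh.app_res, ← QCoh.res_res N i₁.le hVW,
        show QCoh.res N i₁.le (φ.app W m) = N.presheaf.map i₂.op 0 from h1, map_zero, map_zero]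
    have h3 := hV.1 h2
    show M.presheaf.germ W x hxW m = 0
    rw [← M.presheaf.germ_res_apply (homOfLE (hVW.trans i₁.le)) x hxV m,
      show M.presheaf.map (homOfLE (hVW.trans i₁.le)).op m = 0 from h3, map_zero]
  · obtain ⟨W, hxW, m, rfl⟩ := exists_germM_eq N x t
    obtain ⟨V, hxV, hVW, hV⟩ := h x W hxW
    obtain ⟨s, hs⟩ := hV.2 (QCoh.res N hVW m)
    refine ⟨germM M V x hxV s, ?_⟩
    rw [PullStalk.Exact.stalkLin_germ, hs]
    exact N.presheaf.germ_res_apply (homOfLE hVW) x hxV m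

/-- Frames are transported by isomorphisms. -/
theorem isFrame_of_iso {M N : X.Modules} (φ : M ⟶ N) [IsIso φ] {U : X.Opens} {n : ℕ}
    {e : Fin n → Γ(M, U)} (he : LFFrame.IsFrame M U e) :
    LFFrame.IsFrame N U (fun i => φ.app U (e i)) := by
  intro V hV
  have hb : Function.Bijective (φ.app V) :=
    (ConcreteCategory.isIso_iff_bijective _).1 inferInstance
  have h1 : LFFrame.comb N (fun i => φ.app U (e i)) hV = φ.app V ∘ LFFrame.comb M e hV := by
    funext a
    simp only [Function.comp_apply, LFFrame.comb, map_sum, Scheme.Modules.Hom.app_smul]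
    refine Finset.sum_congr rfl fun i _ => congrArg (a i • ·) ?_
    exact (NatTrans.naturality_apply φ.mapPresheaf (homOfLE hV).op (e i)).symm
  rw [h1]
  exact hb.comp (he V hV)

variable {f : X ⟶ S} {g : S' ⟶ S} {p : X' ⟶ X} {q : X' ⟶ S'}

/-- `O ≅ q_* O` after flat base change of `O ≅ f_* O`. -/
theorem bijective_app_of_isPullback (H : IsPullback p q f g) [QuasiCompact f] [QuasiSeparated f]
    [AlgebraicGeometry.Flat g]
    (hf : ∀ U : S.Opens, Function.Bijective (f.app U)) (U : S'.Opens) : Function.Bijective (q.app U) := by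
  let B := {V : S'.Opens // IsAffineOpen V ∧ ∃ US : S.Opens, IsAffineOpen US ∧ V ≤ g ⁻¹ᵁ US}
  have hB : ∀ V : B, Function.Bijective (q.app V.1) := fun ⟨UT, hUT, US, hUS, hT⟩ => by
    have hqs : QuasiSeparatedSpace (f ⁻¹ᵁ US : X.Opens) := by
      haveI : IsAffine _ := hUS
      exact quasiSeparatedSpace_of_quasiSeparated (f ∣_ US)
    haveI : IsAffine _ := hUS
    have hpo := (isIso_pushoutSection_iff H hT (le_refl (f ⁻¹ᵁ US))
        (UY := q ⁻¹ᵁ UT) (le_antisymm (le_inf (fun x hx => by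
          show f (p x) ∈ US
          rw [← Scheme.Hom.comp_apply, H.w, Scheme.Hom.comp_apply]
          exact hT hx) le_rfl) inf_le_right)).1
      (isIso_pushoutSection_of_isQuasiSeparated_of_flat_right H hT _ _ hUS hUT
        (f.isCompact_preimage hUS.isCompact)
        ((isQuasiSeparated_iff_quasiSeparatedSpace _ (f ⁻¹ᵁ US).2).2 hqs))
    haveI : IsIso (f.appLE US (f ⁻¹ᵁ US) le_rfl) := by
      rw [← Scheme.Hom.app_eq_appLE]
      exact (ConcreteCategory.isIso_iff_bijective _).2 (hf US)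
    have := hpo.isIso_inr_of_isIso
    rw [← Scheme.Hom.app_eq_appLE] at this
    exact (ConcreteCategory.isIso_iff_bijective _).1 this
  have hcov : ∀ (W : S'.Opens) (x : S'), x ∈ W → ∃ V : B, x ∈ V.1 ∧ V.1 ≤ W := fun W x hx => by
    obtain ⟨US, hUS, hxUS, -⟩ := exists_isAffineOpen_mem_and_subset (X := S) (Opens.mem_top (g x))
    obtain ⟨V, hV, hxV, hVle⟩ := exists_isAffineOpen_mem_and_subset (X := S') (show x ∈ W ⊓ g ⁻¹ᵁ US from ⟨hx, hxUS⟩)
    exact ⟨⟨V, hV, US, hUS, fun y hy => (hVle hy).2⟩, hxV, fun y hy => (hVle hy).1⟩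
  have hnat : ∀ {V W : S'.Opens} (h : W ≤ V) (a : Γ(S', V)),
      q.app W (S'.presheaf.map (homOfLE h).op a) = X'.presheaf.map (homOfLE (q.preimage_mono h)).op (q.app V a) :=
    fun h a => ConcreteCategory.congr_hom (q.naturality (homOfLE h).op) a
  have hinj : ∀ W : S'.Opens, Function.Injective (q.app W) := by
    intro W
    rw [injective_iff_map_eq_zero]
    intro a ha
    choose V hxV hVW using fun x : W => hcov W x x.2
    refine S'.sheaf.eq_of_locally_eq' (fun x => (V x).1) W (fun x => homOfLE (hVW x))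
      (fun y hy => Opens.mem_iSup.2 ⟨⟨y, hy⟩, hxV _⟩) a 0 fun x => (hB (V x)).1 ?_
    exact ((hnat (hVW x) a).trans ((congrArg _ ha).trans (map_zero _))).trans
      ((congrArg (q.app _) (map_zero (S'.presheaf.map (homOfLE (hVW x)).op).hom)).trans (map_zero _)).symm
  refine ⟨hinj U, fun c => ?_⟩
  choose V hxV hVW using fun x : U => hcov U x x.2
  choose a ha using fun x : U => (hB (V x)).2 (X'.presheaf.map (homOfLE (q.preimage_mono (hVW x))).op c)
  obtain ⟨s, hs, -⟩ := S'.sheaf.existsUnique_gluing' (fun x => (V x).1) U (fun x => homOfLE (hVW x))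
    (fun y hy => Opens.mem_iSup.2 ⟨⟨y, hy⟩, hxV _⟩) a (fun x y => hinj _ (by
      show q.app _ (S'.presheaf.map (homOfLE (inf_le_left)).op (a x)) =
        q.app _ (S'.presheaf.map (homOfLE (inf_le_right)).op (a y))
      rw [hnat, hnat, ha, ha, ← CommRingCat.comp_apply, ← CommRingCat.comp_apply, ← Functor.map_comp,
        ← Functor.map_comp]
      rfl))
  refine ⟨s, X'.sheaf.eq_of_locally_eq' (fun x => q ⁻¹ᵁ (V x).1) (q ⁻¹ᵁ U)
    (fun x => homOfLE (q.preimage_mono (hVW x)))
    (fun y hy => Opens.mem_iSup.2 ⟨⟨q y, hy⟩, hxV ⟨q y, hy⟩⟩) _ c fun x => ?_⟩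
  exact ((hnat (hVW x) s).symm.trans (congrArg (q.app _) (hs x))).trans (ha x)

/-- An invertible module which is trivial over the base after an fpqc base change is trivial over the base. -/
theorem isIso_counit_of_isPullback (H : IsPullback p q f g) [QuasiCompact f] [IsSeparated f]
    [AlgebraicGeometry.Flat g] [Surjective g] [QuasiCompact g]
    (hf : ∀ U : S.Opens, Function.Bijective (f.app U))
    (L : X.Modules) (hL : PicF.IsInvertible L) {N' : S'.Modules} (hN' : PicF.IsInvertible N')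
    (φ : (Scheme.Modules.pullback p).obj L ≅ (Scheme.Modules.pullback q).obj N') :
    PicF.IsInvertible ((Scheme.Modules.pushforward f).obj L) ∧
      IsIso ((Scheme.Modules.pullbackPushforwardAdjunction f).counit.app L) := by
  haveI : L.IsQuasicoherent := ProjTwist.isQCoh_of_isInvertible hL
  haveI hNq : ((Scheme.Modules.pushforward f).obj L).IsQuasicoherent := QCoh.isQuasicoherent_pushforward f L
  let N := (Scheme.Modules.pushforward f).obj L
  let P := (Scheme.Modules.pullback p).obj L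
  let adjg := Scheme.Modules.pullbackPushforwardAdjunction g
  let adjq := Scheme.Modules.pullbackPushforwardAdjunction q
  let ψ : N ⟶ (Scheme.Modules.pushforward g).obj ((Scheme.Modules.pushforward q).obj P) :=
    (Scheme.Modules.pushforward f).map ((Scheme.Modules.pullbackPushforwardAdjunction p).unit.app L) ≫
      (Scheme.Modules.pushforwardComp p f).hom.app P ≫ (Scheme.Modules.pushforwardCongr H.w).hom.app P ≫
      (Scheme.Modules.pushforwardComp q g).inv.app P
  have hle : ∀ U : S.Opens, q ⁻¹ᵁ (g ⁻¹ᵁ U) ≤ p ⁻¹ᵁ (f ⁻¹ᵁ U) := fun U x hx => by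
    show f (p x) ∈ U
    rw [← Scheme.Hom.comp_apply, H.w, Scheme.Hom.comp_apply]
    exact hx
  have hψ : ∀ (U : S.Opens) (m : Γ(L, f ⁻¹ᵁ U)), ψ.app U m = LimTop.unitSec p L (hle U) m := fun U m => rfl
  let θ : (Scheme.Modules.pullback g).obj N ⟶ (Scheme.Modules.pushforward q).obj P :=
    (adjg.homEquiv N _).symm ψ
  have hθψ : adjg.unit.app N ≫ (Scheme.Modules.pushforward g).map θ = ψ := by
    exact (Adjunction.homEquiv_unit adjg N _ θ).symm.trans (Equiv.apply_symm_apply _ ψ)
  have hθ : ∀ (US : S.Opens) (UT : S'.Opens) (hT : UT ≤ g ⁻¹ᵁ US) (m : Γ(L, f ⁻¹ᵁ US)),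
      θ.app UT (LimTop.unitSec g N hT m) =
        (show Γ((Scheme.Modules.pushforward q).obj P, UT) from
          LimTop.unitSec p L ((q.preimage_mono hT).trans (hle US)) m) := by
    intro US UT hT m
    rw [LimTop.unitSec_apply, QCoh.app_res]
    refine (congrArg (QCoh.res ((Scheme.Modules.pushforward q).obj P) hT)
      (congrArg (fun χ : N ⟶ _ => Scheme.Modules.Hom.app χ US m) hθψ)).trans ?_
    exact (congrArg (QCoh.res ((Scheme.Modules.pushforward q).obj P) hT) (hψ US m)).trans
      (LimTop.res_unitSec p L (hle US) (q.preimage_mono hT) m)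
  haveI : IsIso θ := by
    refine isIso_of_bijective_small θ fun x W hx => ?_
    obtain ⟨US, hUS, hxUS, -⟩ := exists_isAffineOpen_mem_and_subset (X := S) (Opens.mem_top (g x))
    obtain ⟨UT, hUT, hxV, hVle⟩ := exists_isAffineOpen_mem_and_subset (X := S') (show x ∈ W ⊓ g ⁻¹ᵁ US from ⟨hx, hxUS⟩)
    have hT : UT ≤ g ⁻¹ᵁ US := fun y hy => (hVle hy).2
    refine ⟨UT, hxV, fun y hy => (hVle hy).1, ?_⟩
    letI := (g.appLE US UT hT).hom.toAlgebra
    letI := LimTop.secModule g N hT
    haveI : IsScalarTower Γ(S, US) Γ(S', UT) Γ((Scheme.Modules.pullback g).obj N, UT) :=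
      IsScalarTower.of_algebraMap_smul fun _ _ => rfl
    have hbc := LimTop.isBaseChange_unitSec g N hT hUS hUT
    have hover : over p q UT (f ⁻¹ᵁ US) = q ⁻¹ᵁ UT :=
      le_antisymm inf_le_right (le_inf ((q.preimage_mono hT).trans (hle US)) le_rfl)
    have hr : Function.Bijective (QCoh.res P hover.ge) := by
      have : IsIso (homOfLE hover.ge) := ⟨homOfLE hover.le, rfl, rfl⟩
      exact (ConcreteCategory.isIso_iff_bijective _).1 (inferInstanceAs (IsIso (P.presheaf.map (homOfLE hover.ge).op)))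
    let j : Sec f L (le_refl (f ⁻¹ᵁ US)) ≃ₗ[Γ(S, US)] Γ(N, US) :=
      { toFun := fun m => m
        invFun := fun m => m
        left_inv := fun _ => rfl
        right_inv := fun _ => rfl
        map_add' := fun _ _ => rfl
        map_smul' := fun a m => by
          show (f.appLE US (f ⁻¹ᵁ US) le_rfl a : Γ(X, f ⁻¹ᵁ US)) • (show Γ(L, f ⁻¹ᵁ US) from m) =
            (f.app US a : Γ(X, f ⁻¹ᵁ US)) • (show Γ(L, f ⁻¹ᵁ US) from m)
          rw [Scheme.Hom.app_eq_appLE] }
    let Λ : Γ(S', UT) ⊗[Γ(S, US)] Sec f L (le_refl (f ⁻¹ᵁ US)) → Γ((Scheme.Modules.pullback g).obj N, UT) :=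
      fun z => hbc.equiv (LinearEquiv.lTensor Γ(S', UT) j z)
    have key : ∀ z : Γ(S', UT) ⊗[Γ(S, US)] Sec f L (le_refl (f ⁻¹ᵁ US)), (θ.app UT (Λ z) : Γ(P, q ⁻¹ᵁ UT)) =
        QCoh.res P hover.ge (Φ f g p q L hT H.w (le_refl (f ⁻¹ᵁ US)) z) := by
      intro z
      induction z using TensorProduct.induction_on with
      | zero => simp only [Λ, map_zero]
      | tmul b m =>
        show θ.app UT (hbc.equiv (b ⊗ₜ (show Γ(N, US) from m))) = QCoh.res P hover.ge (Φ f g p q L hT H.w (le_refl _) (b ⊗ₜ m))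
        rw [IsBaseChange.equiv_tmul, Φ_tmul, QCoh.res_smul, LimTop.res_unitSec, Scheme.Modules.Hom.app_smul]
        refine (congrArg (fun y => b • y) (hθ US UT hT m)).trans ?_
        show (q.app UT b : Γ(X', q ⁻¹ᵁ UT)) •
          (LimTop.unitSec p L ((q.preimage_mono hT).trans (hle US)) (show Γ(L, f ⁻¹ᵁ US) from m) : Γ(P, q ⁻¹ᵁ UT)) = _
        refine congrArg (fun r : Γ(X', q ⁻¹ᵁ UT) =>
          r • (LimTop.unitSec p L ((q.preimage_mono hT).trans (hle US)) (show Γ(L, f ⁻¹ᵁ US) from m) : Γ(P, q ⁻¹ᵁ UT))) ?_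
        rw [Scheme.Hom.app_eq_appLE]
        exact (ConcreteCategory.congr_hom (q.appLE_map _ _) b).symm
      | add a c ha hc =>
        simp only [Λ, map_add] at ha hc ⊢
        rw [ha, hc]
    have hΛ : Function.Bijective Λ := hbc.equiv.bijective.comp (LinearEquiv.lTensor Γ(S', UT) j).bijective
    rw [← Function.Bijective.of_comp_iff _ hΛ]
    rw [show (θ.app UT) ∘ Λ = (QCoh.res P hover.ge) ∘ (Φ f g p q L hT H.w (le_refl (f ⁻¹ᵁ US))) from funext key]
    exact hr.comp (Φ_bijective f g p q L hT H hUS hUT)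
  have hq : ∀ U : S'.Opens, Function.Bijective (q.app U) := bijective_app_of_isPullback H hf
  haveI hη : IsIso (adjq.unit.app N') := LFFrame.isIso_unit q hq N' fun y => by
    obtain ⟨U, e, hy, he⟩ := exists_frame_one hN' y
    exact ⟨U, 1, e, hy, he⟩
  have hεP : IsIso (adjq.counit.app P) := by
    haveI : IsIso ((Scheme.Modules.pullback q).map (adjq.unit.app N')) := inferInstance
    haveI h1 : IsIso (adjq.counit.app ((Scheme.Modules.pullback q).obj N')) := by
      have h2 := adjq.left_triangle_components N'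
      haveI : IsIso ((Scheme.Modules.pullback q).map (adjq.unit.app N') ≫
          adjq.counit.app ((Scheme.Modules.pullback q).obj N')) := by rw [h2]; exact IsIso.id _
      exact IsIso.of_isIso_comp_left ((Scheme.Modules.pullback q).map (adjq.unit.app N')) _
    exact (NatTrans.isIso_app_iff_of_iso adjq.counit φ).2 h1
  have hN : PicF.IsInvertible N := by
    haveI : IsIso θ := inferInstance
    exact isInvertible_of_pullback g N (PicCl.isInvertible_of_iso
      (asIso (adjq.unit.app N') ≪≫ ((Scheme.Modules.pushforward q).mapIso φ).symm ≪≫ (asIso θ).symm) hN')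
  refine ⟨hN, LFFrame.isIso_of_locally_bijective _ fun x => ?_⟩
  obtain ⟨U, e, hxU, he⟩ := exists_frame_one hN (f x)
  refine ⟨f ⁻¹ᵁ U, hxU, fun V hV => ?_⟩
  suffices hs : LFFrame.IsFrame L (f ⁻¹ᵁ U) (show Fin 1 → Γ(L, f ⁻¹ᵁ U) from e) from
    hs.counit_bijective f hf V hV
  -- the frame on the base change
  have h1 := isFrame_of_iso θ (he.pullback g)
  have h2 := isFrame_of_iso (adjq.counit.app P) (h1.pullback q)
  have h3 : ∀ i, (adjq.counit.app P).app (q ⁻¹ᵁ (g ⁻¹ᵁ U))
      (LFFrame.unitSec q _ (g ⁻¹ᵁ U) (θ.app (g ⁻¹ᵁ U) (LFFrame.unitSec g N U (e i)))) =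
      LimTop.unitSec p L (hle U) (e i) := by
    intro i
    refine (congrArg (fun χ : (Scheme.Modules.pushforward q).obj P ⟶ _ => Scheme.Modules.Hom.app χ (g ⁻¹ᵁ U)
      (θ.app (g ⁻¹ᵁ U) (LFFrame.unitSec g N U (e i)))) (adjq.right_triangle_components P)).trans ?_
    exact (congrArg (fun χ : N ⟶ _ => Scheme.Modules.Hom.app χ U (e i)) hθψ).trans (hψ U (e i))
  refine LFFrame.isFrame_of_stalkComb_bijective fun z hz => ?_
  haveI : Surjective p := MorphismProperty.of_isPullback H.flip inferInstance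
  obtain ⟨z', rfl⟩ := p.surjective z
  have hz' : z' ∈ q ⁻¹ᵁ (g ⁻¹ᵁ U) := by
    show g (q z') ∈ U
    rw [← Scheme.Hom.comp_apply, ← H.w, Scheme.Hom.comp_apply]
    exact hz
  obtain ⟨t, ht⟩ := (h2.stalkComb_bijective z' hz').2 ((PullStalk.Basic.unitStalkHom p L z') 
    ((exists_basis_stalk hL (p z')).some 0))
  let bL := (exists_basis_stalk hL (p z')).some
  letI := (p.stalkMap z').hom.toAlgebra
  letI := PullStalk.Basic.moduleOver p L z'
  haveI : IsScalarTower (X.presheaf.stalk (p z')) (X'.presheaf.stalk z') (P.presheaf.stalk z') :=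
    IsScalarTower.of_algebraMap_smul fun _ _ => rfl
  let bP := (PullStalk.Basic.isBaseChange_unitStalk p L z').basis bL
  let a : X.presheaf.stalk (p z') := bL.repr (germM L (f ⁻¹ᵁ U) (p z') hz (e 0)) 0
  have ha : germM L (f ⁻¹ᵁ U) (p z') hz (e 0) = a • bL 0 := by
    conv_lhs => rw [← bL.sum_repr (germM L (f ⁻¹ᵁ U) (p z') hz (e 0)), Fin.sum_univ_one]
  have hga : germM P (q ⁻¹ᵁ (g ⁻¹ᵁ U)) z' hz' ((adjq.counit.app P).app (q ⁻¹ᵁ (g ⁻¹ᵁ U))
      (LFFrame.unitSec q _ (g ⁻¹ᵁ U) (θ.app (g ⁻¹ᵁ U) (LFFrame.unitSec g N U (e 0))))) =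
      (p.stalkMap z').hom a • bP 0 := by
    rw [h3 0, LimTop.germ_unitSec, ha, IsBaseChange.basis_apply]
    exact map_smul (PullStalk.Basic.unitStalk p L z') a (bL 0)
  have hau : IsUnit a := by
    have h4 : t 0 • ((p.stalkMap z').hom a • bP 0) = bP 0 := by
      rw [← hga, IsBaseChange.basis_apply]
      refine Eq.trans ?_ ht
      simp [LFFrame.stalkComb, Fintype.linearCombination_apply]
    have h5 : t 0 * (p.stalkMap z').hom a = 1 := by
      have := congrArg (fun w => bP.repr w 0) h4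
      simpa [map_smul, bP.repr_self] using this
    exact isUnit_of_map_unit (p.stalkMap z').hom a (IsUnit.of_mul_eq_one _ (by rw [mul_comm]; exact h5))
  have hcomb : LFFrame.stalkComb L (show Fin 1 → Γ(L, f ⁻¹ᵁ U) from e) (p z') hz =
      (bL.unitsSMul fun _ => hau.unit).equivFun.symm.toLinearMap := by
    apply LinearMap.ext
    intro c
    simp [LFFrame.stalkComb, Fintype.linearCombination_apply, Module.Basis.equivFun_symm_apply,
      Module.Basis.unitsSMul_apply, Units.smul_def, ha, smul_smul]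
  rw [hcomb]
  exact LinearEquiv.bijective _

end Groth.Agent.LFDesc
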